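import Cfsg.Agent.Lib.BlockHeights.KleinFourCount
import Cfsg.Agent.Lib.BlockHeights.WeakOrth

/-!
# The values of a block with Klein four defect group on the singular elements
-/

set_option autoImplicit false
set_option linter.unusedSectionVars false
set_option linter.style.haveILetI false
set_option maxHeartbeats 1000000

namespace Cfsg.Agent.Lib.KleinIsometry

open Cfsg Cfsg.Agent.Lib.Blocks Cfsg.Agent.Lib.Characters Cfsg.Agent.Lib.BrauerPairs
open Cfsg.Agent.Lib.BlockHeights
open scoped ComplexConjugate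

universe u

variable {G : Type u} [Group G] [Fintype G] {M : Ideal AlgInt} [M.IsPrime]

/-- A combination of characters vanishing on the singular elements is divisible at a regular
element by the order of its centralizer. -/
theorem div_centralizer_local {p : ℕ} (hM : IsPModular p M) (S : Finset (IrrCharacter G))
    (k : IrrCharacter G → ℂ) (hk : ∀ χ ∈ S, IsIntegral ℤ (k χ))
    (hvan : ∀ g : G, ¬ IsPRegular p g → ∑ χ ∈ S, k χ * (χ : G → ℂ) g = 0) {x : G}
    (hx : IsPRegular p x) :
    MemLocalRing M ((∑ χ ∈ S, k χ * (χ : G → ℂ) x) /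
      (Nat.card (Subgroup.centralizer ({x} : Set G)) : ℂ)) := by
  classical
  haveI := Fact.mk hM.1
  set C := Subgroup.centralizer ({x} : Set G) with hCdef
  haveI := Fintype.ofFinite C
  haveI := Fintype.ofFinite (IrrCharacter C)
  have hC : ∀ g, g ∈ C ↔ Commute x g := fun g =>
    ⟨fun h => (Subgroup.mem_centralizer_singleton_iff.1 h).symm,
      fun h => Subgroup.mem_centralizer_singleton_iff.2 h.eq.symm⟩
  have hxC : x ∈ C := (hC x).2 (Commute.refl x)
  obtain ⟨Q⟩ : Nonempty (Sylow p C) := inferInstance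
  haveI := Fintype.ofFinite (Q : Subgroup C)
  have hQC : Nat.card C = Nat.card (Q : Subgroup C) * (Q : Subgroup C).index :=
    (Q : Subgroup C).card_mul_index.symm
  have hQ0 : (Nat.card (Q : Subgroup C) : ℂ) ≠ 0 := Nat.cast_ne_zero.2 Nat.card_pos.ne'
  have hterm : ∀ χ : IrrCharacter G, ∃ z : ℂ, IsIntegral ℤ z ∧
      ∑ q : (Q : Subgroup C), (χ : G → ℂ) (x * ((q : C) : G)) =
        (Nat.card (Q : Subgroup C) : ℂ) * z := by
    intro χ
    have hn : ∀ η : IrrCharacter C, ∃ n : ℕ,
        ∑ q : (Q : Subgroup C), (η : C → ℂ) (q : C) = (Nat.card (Q : Subgroup C) : ℂ) * n := by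
      intro η
      obtain ⟨n, hn⟩ := IsCharacter.exists_classInner_nat
        (IsCharacter.comp (irr_isCharacter η) (Q : Subgroup C).subtype)
        (irr_isCharacter (trivIrr (Q : Subgroup C)))
      refine ⟨n, ?_⟩
      rw [← hn, classInner, ← mul_assoc, mul_inv_cancel₀ hQ0, one_mul]
      exact Finset.sum_congr rfl fun q _ => by simp [trivIrr_apply]
    choose n hn using hn
    refine ⟨∑ η : IrrCharacter C, centralRoot x hxC η * resMult C χ η * (n η : ℂ),
      IsIntegral.sum _ fun η _ => ?_, ?_⟩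
    · refine IsIntegral.mul (IsIntegral.mul ?_ (isIntegral_resMult χ η))
        (isIntegral_algebraMap (R := ℤ) (x := (n η : ℤ)))
      exact isIntegral_of_pow_eq_one (orderOf_pos x).ne'
        (centralRoot_pow hC hxC η (pow_orderOf_eq_one x))
    · have h : ∀ q : (Q : Subgroup C), (χ : G → ℂ) (x * ((q : C) : G)) =
          ∑ η : IrrCharacter C, centralRoot x hxC η * resMult C χ η * (η : C → ℂ) (q : C) := by
        intro q
        have h1 := congrFun (resFun_eq_sum (C := C) χ) ((⟨x, hxC⟩ : C) * (q : C))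
        simp only [resFun, Finset.sum_apply, Pi.smul_apply, smul_eq_mul, Subgroup.coe_mul] at h1
        rw [h1]
        exact Finset.sum_congr rfl fun η _ => by rw [apply_central_mul hC]; ring
      simp only [h]
      rw [Finset.sum_comm, Finset.mul_sum]
      exact Finset.sum_congr rfl fun η _ => by rw [← Finset.mul_sum, hn]; ring
  choose z hz hz' using hterm
  have hsing : ∀ q : (Q : Subgroup C), q ≠ 1 → ¬ IsPRegular p (x * ((q : C) : G)) := by
    intro q hq hreg
    obtain ⟨j, hj⟩ := IsPGroup.iff_orderOf.1 Q.isPGroup' q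
    have hqo : orderOf ((q : C) : G) = p ^ j := by rw [Subgroup.orderOf_coe, Subgroup.orderOf_coe, hj]
    have hj0 : j ≠ 0 := by
      rintro rfl
      exact hq (orderOf_eq_one_iff.1 (by rw [hj, pow_zero]))
    have hcop : (orderOf x).Coprime (orderOf ((q : C) : G)) := by
      rw [hqo]
      exact ((hM.1.coprime_iff_not_dvd.2 hx).symm).pow_right j
    apply hreg
    rw [((hC _).1 (q : C).2).orderOf_mul_eq_mul_orderOf_of_coprime hcop, hqo]
    exact dvd_mul_of_dvd_right (dvd_pow_self p hj0) _
  have hsum : (∑ χ ∈ S, k χ * (χ : G → ℂ) x) =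
      (Nat.card (Q : Subgroup C) : ℂ) * ∑ χ ∈ S, k χ * z χ := by
    have h1 : ∑ q : (Q : Subgroup C), ∑ χ ∈ S, k χ * (χ : G → ℂ) (x * ((q : C) : G)) =
        ∑ χ ∈ S, k χ * (χ : G → ℂ) x := by
      rw [Finset.sum_eq_single (1 : (Q : Subgroup C))]
      · simp
      · exact fun q _ hq => hvan _ (hsing q hq)
      · simp
    rw [← h1, Finset.sum_comm, Finset.mul_sum]
    exact Finset.sum_congr rfl fun χ _ => by rw [← Finset.mul_sum, hz']; ring
  have hodd : ¬ p ∣ (Q : Subgroup C).index := Q.not_dvd_index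
  rw [hsum, hQC, Nat.cast_mul, mul_div_mul_left _ _ hQ0, div_eq_mul_inv]
  exact memLocalRing_mul
    (memLocalRing_of_isIntegral' (IsIntegral.sum _ fun χ hχ => (hk χ hχ).mul (hz χ)))
    (memLocalRing_inv_natCast hM hodd)

variable {B : Set (IrrCharacter G)}

/-- The centralizer of an element of a section. -/
theorem card_centralizer_shift {p : ℕ} (hM : IsPModular p M) {C : Subgroup G} [Fintype C] {u : G}
    (hC : ∀ g, g ∈ C ↔ Commute u g) (hu : ∃ k : ℕ, orderOf u = p ^ k) {s : C}
    (hs : IsPRegular p s) :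
    Nat.card (Subgroup.centralizer ({u * (s : G)} : Set G)) =
      Nat.card (Subgroup.centralizer ({s} : Set C)) := by
  have key : ∀ g : G, g ∈ Subgroup.centralizer ({u * (s : G)} : Set G) ↔
      ∃ hg : g ∈ C, (⟨g, hg⟩ : C) ∈ Subgroup.centralizer ({s} : Set C) := by
    intro g
    rw [Subgroup.mem_centralizer_singleton_iff, ← mul_inv_eq_iff_eq_mul,
      isConj_shift_iff hM hC hu hs hs g]
    exact exists_congr fun hg => by
      rw [Subgroup.mem_centralizer_singleton_iff, mul_inv_eq_iff_eq_mul]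
  exact Nat.card_congr
    { toFun := fun g => ⟨⟨g.1, ((key g.1).1 g.2).choose⟩, ((key g.1).1 g.2).choose_spec⟩
      invFun := fun g => ⟨g.1.1, (key g.1.1).2 ⟨g.1.2, g.2⟩⟩
      left_inv := fun g => rfl
      right_inv := fun g => rfl }

set_option maxHeartbeats 1600000 in
open Classical in
/-- The decomposition numbers of one subsection. -/
theorem subsection_data (hM : IsPModular 2 M) (hB : IsPBlock M B)
    (hd : blockDefect 2 B = 2) {x : G} (hx : orderOf x = 2) {C : Subgroup G} [Fintype C]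
    (hC : ∀ g, g ∈ C ↔ Commute x g) {b : Set (IrrCharacter C)} (hb : IsInducedBlock M C b B)
    {Db : Subgroup C} (hDb : IsDefectGroup 2 M b Db) (hDb4 : Nat.card Db = 4)
    (hl : blockRank 2 b = 1) :
    ∃ (a : IrrCharacter G → ℤ) (φ : C → ℂ),
      (∀ χ : IrrCharacter G, ∀ s, IsPRegular 2 s →
        blockPart b (shiftRes C x (χ : G → ℂ)) s = (a χ : ℂ) * φ s) ∧
      (∀ χ ∈ B, a χ ^ 2 = 1) ∧
      (∀ r : G, IsPRegular 2 r → ∑ᶠ χ ∈ B, (a χ : ℂ) * (χ : G → ℂ) r = 0) ∧
      (∀ s, IsPRegular 2 s → MemLocalRing M (φ s) ∧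
        MemLocalRing M (4 * φ s / (Nat.card (Subgroup.centralizer ({s} : Set C)) : ℂ))) := by
  haveI : Fact (Nat.Prime 2) := ⟨hM.1⟩
  haveI := Fintype.ofFinite (IrrCharacter G)
  haveI := Fintype.ofFinite (IrrCharacter C)
  have hx2 : ∃ k : ℕ, orderOf x = 2 ^ k := ⟨1, by rw [hx, pow_one]⟩
  have hxC : x ∈ C := (hC x).2 (Commute.refl x)
  have hh : ∀ χ ∈ B, blockHeight 2 B (χ : G → ℂ) = 0 := fun χ hχ => by
    by_contra hne
    have h1 := minExp_add_blockHeight (p := 2) hχ
    have h2 := nu_add_two_le hM hB hχ (by omega)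
    have h3 := blockDefect_add_minExp (p := 2) hB
    omega
  have hbd : blockDefect 2 b = 2 :=
    Nat.pow_right_injective le_rfl ((IsDefectGroup.card_eq hM hb.1 hDb).symm.trans hDb4)
  obtain ⟨φ, d, ⟨n, hn⟩, hval, hdsum⟩ := rank_one_data hM hb.1 hDb hl
  rw [hDb4, finsum_mem_eq_finite_toFinset_sum _ (Set.toFinite b)] at hdsum
  have hdec : ∀ χ : IrrCharacter G, ∃ a : ℤ, ∀ s, IsPRegular 2 s →
      blockPart b (shiftRes C x (χ : G → ℂ)) s = (a : ℂ) * φ s := by
    intro χ
    have hroot : ∀ η : IrrCharacter C, ∃ e : ℤ,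
        centralRoot x hxC η * resMult C χ η = (e : ℂ) := by
      intro η
      obtain ⟨m, hm⟩ := exists_resMult_nat χ η
      have h2 := centralRoot_pow hC hxC η (m := 2) (by rw [← hx, pow_orderOf_eq_one])
      rcases sq_eq_one_iff.1 h2 with h | h
      · exact ⟨m, by rw [h, hm, one_mul]; norm_num⟩
      · exact ⟨-m, by rw [h, hm]; push_cast; ring⟩
    choose e he using hroot
    refine ⟨∑ η ∈ Finset.univ.filter (· ∈ b), e η * d η, fun s hs => ?_⟩
    rw [BlockHeights.blockPart_eq_sum, Finset.sum_apply, Int.cast_sum, Finset.sum_mul, Finset.sum_filter]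
    refine Finset.sum_congr rfl fun η _ => ?_
    by_cases hη : η ∈ b
    · rw [if_pos hη, if_pos hη, Pi.smul_apply, smul_eq_mul, classInner_shiftRes hC hxC, he,
        hval η hη s hs, Int.cast_mul, Int.cast_natCast, mul_assoc]
    · simp [hη]
  choose a ha using hdec
  set w : C → ℂ := fun s => regInd 2 s * φ s with hw
  have hsect : ∀ χ : IrrCharacter G, sect 2 x b (χ : G → ℂ) = (a χ : ℂ) • w := fun χ => by
    funext s
    simp only [sect, pRegularPart_eq, hw, Pi.smul_apply, smul_eq_mul]
    by_cases hs : IsPRegular 2 s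
    · rw [ha χ s hs]; ring
    · rw [regInd_of_singular hs]; ring
  obtain ⟨θ, hθ⟩ := IsPBlock.nonempty hb.1
  have hφ1 : φ 1 ≠ 0 := fun h => IsIrrCharacter.apply_one_ne_zero θ.2 (by
    rw [hval θ hθ 1 (isPRegular_one hM.1), h, mul_zero])
  have hw1 : w 1 = φ 1 := by simp only [hw, regInd_of_regular (isPRegular_one hM.1), one_mul]
  set s := (Set.toFinite B).toFinset with hs
  set sb := (Set.toFinite b).toFinset with hsb
  -- the sum of the squares
  have hsum : ∑ χ ∈ s, a χ ^ 2 = 4 := by
    have h := sum_sect_block hM hC hx2 hb 1 1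
    rw [finsum_mem_eq_finite_toFinset_sum _ (Set.toFinite B)] at h
    simp only [hsect, Pi.smul_apply, smul_eq_mul, hw1, map_mul, map_intCast] at h
    rw [← Finset.sum_filter, show Finset.univ.filter (· ∈ b) = (Set.toFinite b).toFinset by
      ext η; simp] at h
    rw [Finset.sum_congr (s₁ := (Set.toFinite b).toFinset) rfl (fun η hη => by
      rw [pRegularPart_one hM.1, hval η ((Set.toFinite b).mem_toFinset.1 hη) 1
        (isPRegular_one hM.1)])] at h
    have hne : φ 1 * conj (φ 1) ≠ 0 := mul_ne_zero hφ1 (by simpa using hφ1)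
    have h' : ((∑ χ ∈ s, a χ ^ 2 : ℤ) : ℂ) * (φ 1 * conj (φ 1)) =
        ((∑ η ∈ (Set.toFinite b).toFinset, d η ^ 2 : ℕ) : ℂ) * (φ 1 * conj (φ 1)) := by
      rw [Int.cast_sum, Nat.cast_sum, Finset.sum_mul, Finset.sum_mul]
      convert h using 1
      · refine Finset.sum_congr rfl fun χ _ => ?_
        push_cast
        ring
      · refine Finset.sum_congr rfl fun η _ => ?_
        rw [map_mul, map_natCast]
        push_cast
        ring
    rw [hdsum] at h'
    exact_mod_cast mul_right_cancel₀ hne h'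
  -- the norm of the Brauer character
  have hnorm : ∀ χ : IrrCharacter G, classInner (sect 2 x b (χ : G → ℂ)) (sect 2 x b (χ : G → ℂ)) =
      ((a χ ^ 2 : ℤ) : ℂ) * classInner w w := fun χ => by
    rw [hsect, classInner_smul_left, classInner_smul_right, map_intCast]
    push_cast
    ring
  have hww : (4 : ℂ) * classInner w w = 1 := by
    have h := sum_sect_norm hM hC hx2 hb
    rw [finsum_mem_eq_finite_toFinset_sum _ (Set.toFinite B), hl, Nat.cast_one, mul_one] at h
    have h' : ∑ χ ∈ s, classInner (sect 2 x b (χ : G → ℂ)) (sect 2 x b (χ : G → ℂ)) = 1 := by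
      simp only [classInner, ← Finset.mul_sum]
      rw [h, inv_mul_cancel₀ natCard_ne_zero_complex]
    simp only [hnorm] at h'
    rw [← Finset.sum_mul, ← Int.cast_sum, hsum] at h'
    exact_mod_cast h'
  have hodd : ∀ χ ∈ s, a χ ^ 2 = 1 := fun χ hχ => by
    have hχB : χ ∈ B := (Set.toFinite B).mem_toFinset.1 hχ
    have h1 := contrib_unit hM hC hx2 hb hχB (hh χ hχB) hχB (hh χ hχB)
    have h2 : contrib 2 x b χ χ = ((a χ ^ 2 : ℤ) : ℂ) := by
      rw [contrib, hnorm, hbd]
      linear_combination ((a χ ^ 2 : ℤ) : ℂ) * hww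
    rw [h2, memLocalIdeal_intCast_iff hM] at h1
    have h3 : a χ ^ 2 ≤ 4 :=
      le_trans (Finset.single_le_sum (f := fun χ => a χ ^ 2) (fun _ _ => sq_nonneg _) hχ) hsum.le
    have h4 : -2 ≤ a χ ∧ a χ ≤ 2 := ⟨by nlinarith, by nlinarith⟩
    obtain ⟨h4, h5⟩ := h4
    interval_cases (a χ) <;> first | rfl | (norm_num at h1)
  refine ⟨a, φ, ha, fun χ hχ => hodd χ ((Set.toFinite B).mem_toFinset.2 hχ), fun r hr => ?_,
    fun y hy => ⟨?_, ?_⟩⟩
  · -- orthogonal to the regular elements
    rw [finsum_mem_eq_finite_toFinset_sum _ (Set.toFinite B), ← hs]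
    refine mul_left_cancel₀ hφ1 ?_
    rw [mul_zero, Finset.mul_sum]
    have h1 : ∀ χ : IrrCharacter G, φ 1 * ((a χ : ℂ) * (χ : G → ℂ) r) =
        ∑ k : C, blockCoeff b k * ((χ : G → ℂ) (x * (k : G)) * (χ : G → ℂ) r) := by
      intro χ
      have h2 := ha χ 1 (isPRegular_one hM.1)
      rw [← sum_blockCoeff_mul_eq_blockPart b (isClassFunction_shiftRes hC (irr_isClassFunction χ)) 1]
        at h2
      simp only [mul_one, shiftRes] at h2
      rw [← mul_assoc, mul_comm (φ 1), ← h2, Finset.sum_mul]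
      exact Finset.sum_congr rfl fun k _ => by ring
    simp only [h1]
    rw [Finset.sum_comm]
    refine Finset.sum_eq_zero fun k _ => ?_
    rw [← Finset.mul_sum]
    by_cases hk : IsPRegular 2 k
    · have hsing : ¬ IsPRegular 2 (x * (k : G)) := fun hreg => hreg (by
        have hcop : (orderOf x).Coprime (orderOf (k : G)) := by
          rw [hx, Subgroup.orderOf_coe]; exact Nat.prime_two.coprime_iff_not_dvd.2 hk
        rw [((hC _).1 k.2).orderOf_mul_eq_mul_orderOf_of_coprime hcop, hx]
        exact dvd_mul_right _ _)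
      refine mul_eq_zero_of_right _ ?_
      have h2 := sum_block_mul_eq_zero hM hB hsing hr
      rw [← Finset.sum_filter] at h2
      rw [← h2]
      exact Finset.sum_congr (by ext; simp [hs]) fun _ _ => rfl
    · rw [blockCoeff_eq_zero_of_singular hM hb.1 hk, zero_mul]
  · rw [hn y hy, finsum_mem_eq_finite_toFinset_sum _ (Set.toFinite b)]
    exact memLocalRing_sum _ fun ψ _ => memLocalRing_mul (memLocalRing_intCast _)
      (memLocalRing_of_isIntegral' (IsCharacter.isIntegral (irr_isCharacter ψ) y))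
  · -- the projective character of the block
    have h := div_centralizer_local hM sb (fun η => (d η : ℂ))
      (fun η _ => isIntegral_algebraMap (R := ℤ) (x := (d η : ℤ))) (fun g hg => ?_) hy
    · rw [Finset.sum_congr rfl (g := fun η => ((d η ^ 2 : ℕ) : ℂ) * φ y) fun η hη => by
        rw [hval η ((Set.toFinite b).mem_toFinset.1 hη) y hy]; push_cast; ring,
        ← Finset.sum_mul, ← Nat.cast_sum, hdsum] at h
      exact_mod_cast h
    · refine mul_left_cancel₀ hφ1 ?_
      rw [mul_zero, Finset.mul_sum]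
      have h2 := sum_block_mul_eq_zero hM hb.1 hg (isPRegular_one (G := C) hM.1)
      rw [← Finset.sum_filter] at h2
      rw [← h2]
      refine Finset.sum_congr (by ext; simp [hsb]) fun η hη => ?_
      rw [hval η (Finset.mem_filter.1 hη).2 1 (isPRegular_one hM.1)]
      ring

end Cfsg.Agent.Lib.KleinIsometry
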