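import Cfsg.Agent.Lib.KleinIsometry.Isometry
import Cfsg.Agent.Lib.BlockHeights.HarrisKnorrCore

/-!
# A block with Klein four defect group and its Brauer correspondent
-/

set_option autoImplicit false
set_option linter.unusedSectionVars false
set_option linter.style.haveILetI false
set_option maxHeartbeats 1000000

namespace Cfsg.Agent.Lib.KleinIsometry

open Cfsg Cfsg.Agent.Lib.Blocks Cfsg.Agent.Lib.Characters Cfsg.Agent.Lib.BrauerPairs
open Cfsg.Agent.Lib.BlockHeights

universe u

variable {G : Type u} [Group G] [Fintype G] {M : Ideal AlgInt} [hMp : M.IsPrime]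

theorem isKleinFour_of_mulEquiv {A B : Type*} [Group A] [Group B] (e : A ≃* B) (h : IsKleinFour A) :
    IsKleinFour B :=
  ⟨(Nat.card_congr e.toEquiv).symm.trans h.card_four,
    (Monoid.exponent_eq_of_mulEquiv e).symm.trans h.exponent_two⟩

/-- The correspondent has a maximal pair with the same inertial index. -/
theorem exists_compatible_pairs (hM : IsPModular 2 M) {B : Set (IrrCharacter G)} {P : Subgroup G}
    (hD : IsDefectGroup 2 M B P) (hV : IsKleinFour P)
    [Fintype (Subgroup.normalizer (P : Set G))]
    {c : Set (IrrCharacter (Subgroup.normalizer (P : Set G)))}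
    (hcD : IsDefectGroup 2 M c (P.subgroupOf (Subgroup.normalizer (P : Set G))))
    (hc : IsInducedBlock M (Subgroup.normalizer (P : Set G)) c B) :
    ∃ (b : Set (IrrCharacter (Subgroup.centralizer (P : Set G))))
      (b' : Set (IrrCharacter (Subgroup.centralizer
        (P.subgroupOf (Subgroup.normalizer (P : Set G)) :
          Set (Subgroup.normalizer (P : Set G)))))),
      IsMaximalBrauerPair 2 M B P b ∧
      IsMaximalBrauerPair 2 M c (P.subgroupOf (Subgroup.normalizer (P : Set G))) b' ∧
      (Subgroup.centralizer (P : Set G)).relIndex (pairStab P b) =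
        (Subgroup.centralizer (P.subgroupOf (Subgroup.normalizer (P : Set G)) :
          Set (Subgroup.normalizer (P : Set G)))).relIndex
          (pairStab (P.subgroupOf (Subgroup.normalizer (P : Set G))) b') := by
  classical
  haveI := Fact.mk hM.1
  set V := P.subgroupOf (Subgroup.normalizer (P : Set G)) with hVdef
  have hPN : P ≤ (Subgroup.normalizer (P : Set G)) := Subgroup.le_normalizer
  have hCN : Subgroup.centralizer (P : Set G) ≤ (Subgroup.normalizer (P : Set G)) := centralizer_le_normalizer' P
  have hVP : V.map (Subgroup.normalizer (P : Set G)).subtype = P := Subgroup.map_subgroupOf_eq_of_le hPN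
  have hVN : ∀ h : (Subgroup.normalizer (P : Set G)), h ∈ Subgroup.normalizer (V : Set (Subgroup.normalizer (P : Set G))) := fun h =>
    (mem_normalizer_subgroupOf hPN h).2 h.2
  obtain ⟨b', hmax'⟩ := exists_maximal_defect hM hc.1 hcD
  haveI := Fintype.ofFinite (Subgroup.centralizer (V : Set (Subgroup.normalizer (P : Set G))))
  haveI := Fintype.ofFinite (Subgroup.centralizer (P : Set G))
  have hV2 : IsKleinFour V := isKleinFour_of_mulEquiv (Subgroup.subgroupOfEquivOfLe hPN).symm hV
  -- the pair induces the correspondent
  have hind' : IsInducedBlock M (Subgroup.centralizer (V : Set (Subgroup.normalizer (P : Set G)))) b' c := by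
    obtain ⟨ξ, hξ⟩ := IsPBlock.nonempty hmax'.1.1.2
    have hVC : V ≤ Subgroup.centralizer (V : Set (Subgroup.normalizer (P : Set G))) := fun v hv =>
      Subgroup.mem_centralizer_iff.2 fun w hw => klein_comm hV2 w hw v hv
    obtain ⟨η, hη⟩ := exists_induced_char hM hmax'.1.1.1 hVC le_rfl
      (fun h _ => hVN h) ξ
    have hind : IsInducedBlock M (Subgroup.centralizer (V : Set (Subgroup.normalizer (P : Set G)))) b'
        (blockOf M (η : (Subgroup.normalizer (P : Set G)) → ℂ)) :=
      isInducedBlock_of_pair hmax'.1.1.2 (isPBlock_blockOf η) hξ (self_mem_blockOf η) fun g => by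
        have h1 := hη _ (isRCentral_classIndicator (M := M) g)
        rwa [omega_classIndicator (irr_isClassFunction η)] at h1
    rwa [(existsUnique_isBrauerPairOf hM hmax'.1.1).unique
      (isBrauerPairOf_of_induced hM hmax'.1.1.1 hind) hmax'.1] at hind
  refine ⟨transBlock (relEquiv hVP hCN) b', b', isMaximal_of_induced hM hD ?_, hmax', ?_⟩
  · obtain ⟨ξ, hξ⟩ := IsPBlock.nonempty hind'.1
    obtain ⟨η, hη⟩ := IsPBlock.nonempty hc.1
    obtain ⟨χ, hχ⟩ := IsPBlock.nonempty hc.2.1
    refine isInducedBlock_of_pair (isPBlock_transBlock _ hind'.1) hc.2.1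
      (ξ₀ := transIrr (relEquiv hVP hCN) ξ) ⟨ξ, hξ, rfl⟩ hχ fun g => ?_
    rw [omega_transIrr, ← omega_classIndicator (irr_isClassFunction χ) g]
    have hf := isRCentral_classIndicator (M := M) g
    have h1 := IsInducedBlock.omega_congr hind' hξ hη (isRCentral_resFun (Subgroup.normalizer (P : Set G)) hf)
    have h2 := IsInducedBlock.omega_congr hc hη hχ hf
    have h3 := memLocalIdeal_add h1 h2
    rw [sub_add_sub_cancel] at h3
    exact h3
  · have hstab : pairStab P (transBlock (relEquiv hVP hCN) b') = (pairStab V b').map (Subgroup.normalizer (P : Set G)).subtype := by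
      have hco := subgroupBlockCoeff_relEquiv hVP hCN b'
      ext g
      constructor
      · intro hg
        refine ⟨⟨g, hg.1⟩, ⟨hVN _, ?_⟩, rfl⟩
        have h := hg.2
        rw [hco] at h
        have h' : gconj ((⟨g, hg.1⟩ : (Subgroup.normalizer (P : Set G))) : G) (extendByZero (Subgroup.normalizer (P : Set G)) (subgroupBlockCoeff _ b')) =
          extendByZero (Subgroup.normalizer (P : Set G)) (subgroupBlockCoeff _ b') := h
        rw [gconj_extendByZero] at h'
        funext y
        have h2 := congrFun h' (y : G)
        rwa [extendByZero_of_mem _ _ y.2, extendByZero_of_mem _ _ y.2] at h2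
      · rintro ⟨h, hh, rfl⟩
        refine ⟨h.2, ?_⟩
        rw [hco]
        show gconj (h : G) _ = _
        rw [gconj_extendByZero, hh.2]
    have hcen : Subgroup.centralizer (P : Set G) = (Subgroup.centralizer (V : Set (Subgroup.normalizer (P : Set G)))).map (Subgroup.normalizer (P : Set G)).subtype := by
      ext g
      constructor
      · intro hg
        exact ⟨⟨g, hCN hg⟩, mem_centralizer_map_subtype.1 (by rw [hVP]; exact hg), rfl⟩
      · rintro ⟨h, hh, rfl⟩
        have := mem_centralizer_map_subtype.2 hh
        rwa [hVP] at this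
    rw [hstab, hcen, Subgroup.relIndex_map_map_of_injective _ _ (Subgroup.normalizer (P : Set G)).subtype_injective]

end Cfsg.Agent.Lib.KleinIsometry
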