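import Cfsg.Agent.Lib.KleinIsometry.Subsection

/-!
# The sign vectors of a block with Klein four defect group
-/

set_option autoImplicit false
set_option linter.unusedSectionVars false
set_option linter.style.haveILetI false
set_option maxHeartbeats 1000000

namespace Cfsg.Agent.Lib.KleinIsometry

open Cfsg Cfsg.Agent.Lib.Blocks Cfsg.Agent.Lib.Characters Cfsg.Agent.Lib.BrauerPairs
open Cfsg.Agent.Lib.BlockHeights

universe u

variable {G : Type u} [Group G] [Fintype G] {M : Ideal AlgInt} [M.IsPrime]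
  {B : Set (IrrCharacter G)} {P : Subgroup G}
  {c : Set (IrrCharacter (Subgroup.centralizer (P : Set G)))}

/-- A vector of signs on `B` orthogonal to the values on the regular elements. -/
def IsSignVec (B : Set (IrrCharacter G)) (a : IrrCharacter G → ℤ) : Prop :=
  (∀ χ ∈ B, a χ ^ 2 = 1) ∧
    ∀ r : G, IsPRegular 2 r → ∑ᶠ χ ∈ B, (a χ : ℂ) * (χ : G → ℂ) r = 0

theorem blockDefect_two (hM : IsPModular 2 M) (hmax : IsMaximalBrauerPair 2 M B P c)
    (hV : IsKleinFour P) : blockDefect 2 B = 2 := by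
  haveI : Fact (Nat.Prime 2) := ⟨hM.1⟩
  haveI := hV
  have hBd := IsDefectGroup.card_eq hM hmax.1.2.1 (isDefectGroup_of_isMaximal hM hmax)
  exact Nat.pow_right_injective le_rfl
    (hBd.symm.trans (IsKleinFour.card_four : Nat.card P = 4))

/-- The defect group of the block at an involution. -/
theorem klein_defect_four (hM : IsPModular 2 M) (hmax : IsMaximalBrauerPair 2 M B P c)
    (hV : IsKleinFour P) {v : G} (hv : v ∈ P)
    {f : Set (IrrCharacter (Subgroup.centralizer (Subgroup.zpowers v : Set G)))}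
    (hle : SubpairLE 2 M (Subgroup.zpowers v) f P c) :
    IsInducedBlock M (Subgroup.centralizer (Subgroup.zpowers v : Set G)) f B ∧
      ∃ D, IsDefectGroup 2 M f D ∧ Nat.card D = 4 := by
  classical
  haveI : Fact (Nat.Prime 2) := ⟨hM.1⟩
  haveI := hV
  have hPC := le_centralizer_zpowers hV hv
  have hBd := IsDefectGroup.card_eq hM hmax.1.2.1 (isDefectGroup_of_isMaximal hM hmax)
  have hP4 : Nat.card P = 4 := IsKleinFour.card_four
  have hpair : IsBrauerPairOf 2 M B (Subgroup.zpowers v) f :=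
    (isBrauerPairOf_iff_of_subpairLE hM hmax.1.1 hle hmax.1.2.1).1 hmax.1
  have hind := isInducedBlock_of_isBrauerPairOf_zpowers hM hpair
  obtain ⟨D, hD, hPD⟩ := exists_defectGroup_ge_centralizer hM hmax.1.1 hle
  rw [inf_eq_left.2 hPC] at hPD
  refine ⟨hind, D, hD, le_antisymm ?_ ?_⟩
  · obtain ⟨E, hE, hDE⟩ := exists_le_defectGroup hM hind hD
    rw [← card_map_subtype D]
    refine (Subgroup.card_le_of_le hDE).trans (le_of_eq ?_)
    rw [IsDefectGroup.card_eq hM hmax.1.2.1 hE, ← hBd, hP4]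
  · rw [← hP4, ← card_subgroupOf hPC]
    exact Subgroup.card_le_of_le hPD

/-- A sign vector exists. -/
theorem exists_signVec (hM : IsPModular 2 M) (hmax : IsMaximalBrauerPair 2 M B P c)
    (hV : IsKleinFour P) : ∃ a, IsSignVec B a := by
  classical
  haveI := hV
  have hP4 : Nat.card P = 4 := IsKleinFour.card_four
  obtain ⟨v, hv, hv1⟩ := (Subgroup.bot_or_exists_ne_one P).resolve_left fun h => by
    rw [h, Subgroup.card_bot] at hP4; omega
  obtain ⟨f, -, hf⟩ := exists_subpairLE hM hmax.1.1 (Subgroup.zpowers_le.2 hv)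
  obtain ⟨hind, D, hD, hD4⟩ := klein_defect_four hM hmax hV hv hf
  haveI := Fintype.ofFinite (Subgroup.centralizer (Subgroup.zpowers v : Set G))
  obtain ⟨a, -, -, h1, h2, -⟩ := subsection_data hM hmax.1.2.1 (blockDefect_two hM hmax hV)
    (klein_orderOf hV hv hv1) (fun g => mem_centralizer_zpowers_iff) hind hD hD4
    (klein_subsection hM hmax hV hv hv1 hf).1
  exact ⟨a, h1, h2⟩

theorem blockPart_eq_zero_of_eq {p : ℕ} (hM : IsPModular p M) {x : G}
    (hx : ∃ k : ℕ, orderOf x = p ^ k) {C : Subgroup G} [Fintype C]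
    (hCx : Subgroup.centralizer ({x} : Set G) = C) {B : Set (IrrCharacter G)} (hB : IsPBlock M B)
    {χ : IrrCharacter G} (hχ : χ ∈ B) {b : Set (IrrCharacter C)} (hb : IsPBlock M b)
    (hnot : ¬ IsInducedBlock M C b B) {y : C} (hy : ¬ p ∣ orderOf y) :
    blockPart b (shiftRes C x (χ : G → ℂ)) y = 0 := by
  subst hCx
  exact blockPart_eq_zero hM hx hB hχ hb hnot hy

/-- The values on a singular element. -/
theorem singular_expansion (hM : IsPModular 2 M) (hmax : IsMaximalBrauerPair 2 M B P c)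
    (hV : IsKleinFour P) {x : G} (hx : ¬ IsPRegular 2 x) :
    ∃ (ι : Type u) (T : Finset ι) (a : ι → IrrCharacter G → ℤ) (w : ι → ℂ),
      (∀ χ ∈ B, (χ : G → ℂ) x = ∑ i ∈ T, (a i χ : ℂ) * w i) ∧
      ∀ i ∈ T, IsSignVec B (a i) ∧ MemLocalRing M (w i) ∧
        MemLocalRing M (4 * w i / (Nat.card (Subgroup.centralizer ({x} : Set G)) : ℂ)) := by
  classical
  haveI := Fact.mk hM.1
  haveI := hV
  obtain ⟨v, y, hvy, hcomm, ⟨kv, hkv⟩, hy, -, -⟩ := exists_pPart_decomp hM.1 x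
  have hv1 : v ≠ 1 := by
    rintro rfl
    rw [one_mul] at hvy
    exact hx (hvy ▸ (hM.1.coprime_iff_not_dvd).1 hy.symm)
  set C := Subgroup.centralizer (Subgroup.zpowers v : Set G) with hCdef
  haveI := Fintype.ofFinite C
  haveI := Fintype.ofFinite (IrrCharacter C)
  have hC : ∀ g, g ∈ C ↔ Commute v g := fun g => mem_centralizer_zpowers_iff
  set s : C := ⟨y, (hC y).2 hcomm⟩ with hs
  have hsreg : IsPRegular 2 s := by
    rw [IsPRegular, hs, Subgroup.orderOf_mk]
    exact (hM.1.coprime_iff_not_dvd).1 hy.symm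
  have hxv : x = v * (s : G) := hvy
  let blocks : Finset (Set (IrrCharacter C)) :=
    Finset.univ.image fun η : IrrCharacter C => blockOf M (η : C → ℂ)
  let T := blocks.filter fun b => IsInducedBlock M C b B
  have hdata : ∀ b : Set (IrrCharacter C), ∃ (a : IrrCharacter G → ℤ) (w : ℂ),
      IsInducedBlock M C b B → (∀ χ : IrrCharacter G,
        blockPart b (shiftRes C v (χ : G → ℂ)) s = (a χ : ℂ) * w) ∧ IsSignVec B a ∧
        MemLocalRing M w ∧
        MemLocalRing M (4 * w / (Nat.card (Subgroup.centralizer ({x} : Set G)) : ℂ)) := by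
    intro b
    by_cases hb : IsInducedBlock M C b B
    swap
    · exact ⟨0, 0, fun h => absurd h hb⟩
    have hpair : IsBrauerPairOf 2 M B (Subgroup.zpowers v) b :=
      (isInducedBlock_zpowers_iff hM ⟨kv, hkv⟩ b).1 hb
    obtain ⟨z, hz⟩ := exists_conj_subpairLE hM hmax hpair
    have hle : Relation.ReflTransGen (NormalSubpairRel 2 M)
        (⟨Subgroup.zpowers v, b⟩ : BrauerPairIdx G) (conjPair z⁻¹ ⟨P, c⟩) := by
      have h : Relation.ReflTransGen (NormalSubpairRel 2 M)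
          (conjPair z⁻¹ (conjPair z (⟨Subgroup.zpowers v, b⟩ : BrauerPairIdx G)))
          (conjPair z⁻¹ ⟨P, c⟩) := subpairLE_conj hz z⁻¹
      rwa [conjPair_inv_conjPair] at h
    have hmax' := isMaximalBrauerPair_conj hmax z⁻¹
    set P' := P.map (MulAut.conj z⁻¹).toMonoidHom with hP'
    have hV' : IsKleinFour P' := by
      let e : P ≃* P' := P.equivMapOfInjective _ (MulAut.conj z⁻¹).injective
      exact ⟨(Nat.card_congr e.toEquiv).symm.trans IsKleinFour.card_four,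
        (Monoid.exponent_eq_of_mulEquiv e).symm.trans IsKleinFour.exponent_two⟩
    have hle' : SubpairLE 2 M (Subgroup.zpowers v) b P' (conjBlock P z⁻¹ c) := hle
    have hvP : v ∈ P' := subpairLE_le hle' (Subgroup.mem_zpowers v)
    obtain ⟨-, D, hD, hD4⟩ := klein_defect_four hM hmax' hV' hvP hle'
    obtain ⟨a, φ, h1, h2, h3, h4⟩ := subsection_data hM hmax.1.2.1 (blockDefect_two hM hmax hV)
      (klein_orderOf hV' hvP hv1) hC hb hD hD4 (klein_subsection hM hmax' hV' hvP hv1 hle').1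
    refine ⟨a, φ s, fun _ => ⟨fun χ => h1 χ s hsreg, ⟨h2, h3⟩, (h4 s hsreg).1, ?_⟩⟩
    rw [hxv, card_centralizer_shift hM hC ⟨kv, hkv⟩ hsreg]
    exact (h4 s hsreg).2
  choose a w haw using hdata
  refine ⟨_, T, a, w, fun χ hχ => ?_, fun b hb => (haw b (Finset.mem_filter.1 hb).2).2⟩
  have hsum := sum_blockPart (M := M) (isClassFunction_shiftRes hC (irr_isClassFunction χ)) s
  rw [hxv]
  show shiftRes C v (χ : G → ℂ) s = _
  rw [← hsum, ← Finset.sum_filter_add_sum_filter_not blocks (fun b => IsInducedBlock M C b B),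
    Finset.sum_eq_zero (s := blocks.filter fun b => ¬ IsInducedBlock M C b B) fun b hb => ?_,
    add_zero]
  · exact Finset.sum_congr rfl fun b hb => (haw b (Finset.mem_filter.1 hb).2).1 χ
  · obtain ⟨hb1, hb2⟩ := Finset.mem_filter.1 hb
    obtain ⟨η, -, rfl⟩ := Finset.mem_image.1 hb1
    exact blockPart_eq_zero_of_eq hM ⟨kv, hkv⟩ (centralizer_singleton_eq_zpowers v) hmax.1.2.1 hχ
      (isPBlock_blockOf η) hb2 hsreg

/-- In rank one the signs are balanced and the regular values do not depend on the character. -/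
theorem rank_one_vectors (hM : IsPModular 2 M) (hmax : IsMaximalBrauerPair 2 M B P c)
    (hV : IsKleinFour P) (h4 : Nat.card B = 4) (hl : blockRank 2 B = 1) :
    (∀ χ ∈ B, ∀ χ' ∈ B, ∀ r : G, IsPRegular 2 r → (χ : G → ℂ) r = (χ' : G → ℂ) r) ∧
      ∀ a, IsSignVec B a → ∑ᶠ χ ∈ B, a χ = 0 := by
  classical
  haveI := Fact.mk hM.1
  haveI := hV
  obtain ⟨φ, d, -, hval, hd⟩ :=
    rank_one_data hM hmax.1.2.1 (isDefectGroup_of_isMaximal hM hmax) hl
  rw [finsum_mem_eq_finite_toFinset_sum _ (Set.toFinite B),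
    show Nat.card P = 4 from IsKleinFour.card_four] at hd
  set s := (Set.toFinite B).toFinset with hs
  have hcard : s.card = 4 := by rw [← h4, Nat.card_coe_set_eq, Set.ncard_eq_toFinset_card B]
  have hpos : ∀ χ ∈ s, 1 ≤ d χ ^ 2 := fun χ hχ => Nat.one_le_pow _ _ (Nat.pos_of_ne_zero fun h =>
    IsIrrCharacter.apply_one_ne_zero χ.2 (by
      rw [hval χ ((Set.toFinite B).mem_toFinset.1 hχ) 1 (isPRegular_one hM.1), h]; simp))
  have hone : ∀ χ ∈ B, d χ = 1 := fun χ hχ => by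
    have h := (Finset.sum_eq_sum_iff_of_le hpos).1 (by rw [hd, Finset.sum_const, hcard]; rfl) χ
      ((Set.toFinite B).mem_toFinset.2 hχ)
    exact (pow_left_inj₀ (Nat.zero_le _) (Nat.zero_le _) two_ne_zero).1 (by rw [one_pow, ← h])
  refine ⟨fun χ hχ χ' hχ' r hr => by rw [hval χ hχ r hr, hval χ' hχ' r hr, hone χ hχ, hone χ' hχ'],
    fun a ha => ?_⟩
  obtain ⟨χ₀, hχ₀⟩ := IsPBlock.nonempty hmax.1.2.1
  have h := ha.2 1 (isPRegular_one hM.1)
  rw [finsum_mem_eq_finite_toFinset_sum _ (Set.toFinite B), ← hs,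
    Finset.sum_congr rfl (g := fun χ => (a χ : ℂ) * (χ₀ : G → ℂ) 1) fun χ hχ => by
      rw [hval χ ((Set.toFinite B).mem_toFinset.1 hχ) 1 (isPRegular_one hM.1),
        hval χ₀ hχ₀ 1 (isPRegular_one hM.1), hone χ ((Set.toFinite B).mem_toFinset.1 hχ), hone χ₀ hχ₀],
    ← Finset.sum_mul, ← Int.cast_sum] at h
  rw [finsum_mem_eq_finite_toFinset_sum _ (Set.toFinite B), ← hs]
  exact_mod_cast (mul_eq_zero.1 h).resolve_right (IsIrrCharacter.apply_one_ne_zero χ₀.2)

/-- In rank three two sign vectors are proportional. -/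
theorem rank_three_vectors (hM : IsPModular 2 M) (h4 : Nat.card B = 4) (hl : blockRank 2 B = 3)
    {a a₀ : IrrCharacter G → ℤ} (ha : IsSignVec B a) (ha₀ : IsSignVec B a₀) :
    ∃ t : ℤ, ∀ χ ∈ B, a χ = t * a₀ χ := by
  classical
  set s := (Set.toFinite B).toFinset with hs
  have hmem : ∀ {χ}, χ ∈ s ↔ χ ∈ B := (Set.toFinite B).mem_toFinset
  have hcard : s.card = 4 := by rw [← h4, Nat.card_coe_set_eq, Set.ncard_eq_toFinset_card B]
  let R : IrrCharacter G → G → ℂ := fun χ => pRegularPart 2 (χ : G → ℂ)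
  have hR : ∀ a, IsSignVec B a → ∑ χ ∈ s, (a χ : ℂ) • R χ = 0 := by
    intro a ha
    funext r
    simp only [R, Finset.sum_apply, Pi.smul_apply, smul_eq_mul, pRegularPart_eq, Pi.zero_apply]
    by_cases hr : IsPRegular 2 r
    · have h := ha.2 r hr
      rw [finsum_mem_eq_finite_toFinset_sum _ (Set.toFinite B), ← hs] at h
      simpa [regInd_of_regular hr] using h
    · simp [regInd_of_singular hr]
  obtain ⟨χ₀, hχ₀⟩ : s.Nonempty := Finset.card_pos.1 (by omega)
  refine ⟨a χ₀ * a₀ χ₀, fun χ₁ hχ₁ => ?_⟩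
  by_contra hne
  have hsq : a₀ χ₀ * a₀ χ₀ = 1 := by rw [← pow_two]; exact ha₀.1 χ₀ (hmem.1 hχ₀)
  set b : IrrCharacter G → ℤ := fun χ => a χ - a χ₀ * a₀ χ₀ * a₀ χ with hb
  have hb0 : b χ₀ = 0 := by simp only [hb]; rw [mul_assoc, hsq, mul_one, sub_self]
  have hb1 : b χ₁ ≠ 0 := sub_ne_zero.2 hne
  have h01 : χ₀ ≠ χ₁ := fun h => hb1 (h ▸ hb0)
  have hRb : ∑ χ ∈ s, (b χ : ℂ) • R χ = 0 := by
    simp only [hb, Int.cast_sub, Int.cast_mul, sub_smul, Finset.sum_sub_distrib, mul_smul,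
      ← Finset.smul_sum, hR a ha, hR a₀ ha₀, smul_zero, sub_zero]
  set rest := (s.erase χ₀).erase χ₁ with hrest
  have hχ₁e : χ₁ ∈ s.erase χ₀ := Finset.mem_erase.2 ⟨h01.symm, hmem.2 hχ₁⟩
  set W := Submodule.span ℂ ((rest.image R : Finset (G → ℂ)) : Set (G → ℂ)) with hW
  have hrestW : ∀ χ ∈ rest, R χ ∈ W := fun χ hχ =>
    Submodule.subset_span (Finset.mem_coe.2 (Finset.mem_image_of_mem R hχ))
  have hW1 : R χ₁ ∈ W := by
    rw [← Finset.add_sum_erase _ _ hχ₀, hb0, Int.cast_zero, zero_smul, zero_add,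
      ← Finset.add_sum_erase _ _ hχ₁e, ← hrest, add_eq_zero_iff_eq_neg] at hRb
    have h2 := W.smul_mem ((b χ₁ : ℂ)⁻¹) (W.neg_mem (W.sum_mem (t := rest)
      (f := fun χ => (b χ : ℂ) • R χ) fun χ hχ => W.smul_mem _ (hrestW χ hχ)))
    rwa [← hRb, inv_smul_smul₀ (Int.cast_ne_zero.2 hb1)] at h2
  have hW0 : R χ₀ ∈ W := by
    have h := hR a₀ ha₀
    rw [← Finset.add_sum_erase _ _ hχ₀, add_eq_zero_iff_eq_neg] at h
    have h2 := W.smul_mem ((a₀ χ₀ : ℂ)⁻¹) (W.neg_mem (W.sum_mem (t := s.erase χ₀)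
      (f := fun χ => (a₀ χ : ℂ) • R χ) fun χ hχ => W.smul_mem _ (by
        by_cases h1 : χ = χ₁
        · exact h1 ▸ hW1
        · exact hrestW χ (Finset.mem_erase.2 ⟨h1, hχ⟩))))
    rwa [← h, inv_smul_smul₀ (Int.cast_ne_zero.2 fun h0 => by simp [h0] at hsq)] at h2
  have hle : Submodule.span ℂ (R '' B) ≤ W := by
    rw [Submodule.span_le]
    rintro _ ⟨χ, hχ, rfl⟩
    by_cases h0 : χ = χ₀
    · exact h0 ▸ hW0
    by_cases h1 : χ = χ₁
    · exact h1 ▸ hW1
    · exact hrestW χ (Finset.mem_erase.2 ⟨h1, Finset.mem_erase.2 ⟨h0, hmem.2 hχ⟩⟩)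
  have h2 := (Submodule.finrank_mono hle).trans
    ((finrank_span_finset_le_card (rest.image R)).trans Finset.card_image_le)
  rw [hrest, Finset.card_erase_of_mem hχ₁e, Finset.card_erase_of_mem hχ₀, hcard] at h2
  have h3 : Module.finrank ℂ (Submodule.span ℂ (R '' B)) = 3 := hl
  omega

end Cfsg.Agent.Lib.KleinIsometry
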