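import Cfsg.Agent.Lib.KleinIsometry.Block

/-!
# Perfect isometries between blocks with Klein four defect groups
-/

set_option autoImplicit false
set_option linter.unusedSectionVars false
set_option linter.style.haveILetI false
set_option maxHeartbeats 1000000

namespace Cfsg.Agent.Lib.KleinIsometry

open Cfsg Cfsg.Agent.Lib.Blocks Cfsg.Agent.Lib.Characters Cfsg.Agent.Lib.BrauerPairs
open Cfsg.Agent.Lib.BlockHeights

universe u

variable {G H : Type u} [Group G] [Fintype G] [Group H] [Fintype H] {M : Ideal AlgInt}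
  [hMp : M.IsPrime] {B : Set (IrrCharacter G)} {B' : Set (IrrCharacter H)}

theorem four_dvd_sum_mul {ι : Type*} (s : Finset ι) (hs : s.card = 4) (a b : ι → ℤ)
    (ha : ∀ i ∈ s, a i ^ 2 = 1) (hb : ∀ i ∈ s, b i ^ 2 = 1) (ha0 : ∑ i ∈ s, a i = 0)
    (hb0 : ∑ i ∈ s, b i = 0) : (4 : ℤ) ∣ ∑ i ∈ s, a i * b i := by
  have h1 : ∑ i ∈ s, (a i + 1) * (b i + 1) = (∑ i ∈ s, a i * b i) + 4 := by
    simp only [add_mul, mul_add, one_mul, mul_one, Finset.sum_add_distrib, ha0, hb0,
      Finset.sum_const, hs]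
    simp
  have h2 : (4 : ℤ) ∣ ∑ i ∈ s, (a i + 1) * (b i + 1) := by
    refine Finset.dvd_sum fun i hi => ?_
    rcases sq_eq_one_iff.1 (ha i hi) with h | h <;> rcases sq_eq_one_iff.1 (hb i hi) with h' | h' <;>
      norm_num [h, h']
  rw [h1] at h2
  simpa using dvd_sub h2 (dvd_refl (4 : ℤ))

/-- A signed bijection that carries sign vectors to sign vectors is a perfect isometry. -/
theorem isPerfectIsometry_of_vectors (hM : IsPModular 2 M)
    (hB : ∀ x : G, ¬ IsPRegular 2 x → ∃ (ι : Type u) (T : Finset ι) (a : ι → IrrCharacter G → ℤ)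
      (w : ι → ℂ), (∀ χ ∈ B, (χ : G → ℂ) x = ∑ i ∈ T, (a i χ : ℂ) * w i) ∧
      ∀ i ∈ T, IsSignVec B (a i) ∧ MemLocalRing M (w i) ∧
        MemLocalRing M (4 * w i / (Nat.card (Subgroup.centralizer ({x} : Set G)) : ℂ)))
    (hB' : ∀ x : H, ¬ IsPRegular 2 x → ∃ (ι : Type u) (T : Finset ι) (a : ι → IrrCharacter H → ℤ)
      (w : ι → ℂ), (∀ χ ∈ B', (χ : H → ℂ) x = ∑ i ∈ T, (a i χ : ℂ) * w i) ∧
      ∀ i ∈ T, IsSignVec B' (a i) ∧ MemLocalRing M (w i) ∧
        MemLocalRing M (4 * w i / (Nat.card (Subgroup.centralizer ({x} : Set H)) : ℂ)))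
    (I : IrrCharacter H → IrrCharacter G) (ε : IrrCharacter H → ℤ) (hI : Set.BijOn I B' B)
    (hε : ∀ η ∈ B', ε η = 1 ∨ ε η = -1)
    (hpair : ∀ a b, IsSignVec B a → IsSignVec B' b →
      (4 : ℤ) ∣ ∑ᶠ η ∈ B', ε η * a (I η) * b η)
    (hleft : ∀ a, IsSignVec B a → ∀ y : H, IsPRegular 2 y →
      ∑ᶠ η ∈ B', (ε η : ℂ) * (a (I η) : ℂ) * (η : H → ℂ) y = 0)
    (hright : ∀ b, IsSignVec B' b → ∀ x : G, IsPRegular 2 x →
      ∑ᶠ η ∈ B', (ε η : ℂ) * (b η : ℂ) * (I η : G → ℂ) x = 0) :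
    IsPerfectIsometry 2 M B' B I ε := by
  classical
  refine ⟨hI, hε, ?_⟩
  set s := (Set.toFinite B').toFinset with hs
  have hmem : ∀ {η}, η ∈ s ↔ η ∈ B' := (Set.toFinite B').mem_toFinset
  have hμ : ∀ x y, signedBijectionKernel B' I ε x y =
      ∑ η ∈ s, (ε η : ℂ) * (I η : G → ℂ) x * (η : H → ℂ) y := fun x y => by
    rw [signedBijectionKernel, finsum_mem_eq_finite_toFinset_sum _ (Set.toFinite B')]
  simp only [finsum_mem_eq_finite_toFinset_sum _ (Set.toFinite B'), ← hs] at hleft hright hpair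
  have hsr : ∀ x y, ¬ IsPRegular 2 x → IsPRegular 2 y → signedBijectionKernel B' I ε x y = 0 := by
    intro x y hx hy
    obtain ⟨ι, T, a, w, hval, hT⟩ := hB x hx
    rw [hμ, Finset.sum_congr rfl (g := fun η => ∑ i ∈ T, w i *
      ((ε η : ℂ) * (a i (I η) : ℂ) * (η : H → ℂ) y)) fun η hη => by
        rw [hval _ (hI.mapsTo (hmem.1 hη)), Finset.mul_sum, Finset.sum_mul]
        exact Finset.sum_congr rfl fun i _ => by ring,
      Finset.sum_comm]
    exact Finset.sum_eq_zero fun i hi => by rw [← Finset.mul_sum, hleft _ (hT i hi).1 y hy, mul_zero]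
  have hrs : ∀ x y, IsPRegular 2 x → ¬ IsPRegular 2 y → signedBijectionKernel B' I ε x y = 0 := by
    intro x y hx hy
    obtain ⟨ι, T, b, v, hval, hT⟩ := hB' y hy
    rw [hμ, Finset.sum_congr rfl (g := fun η => ∑ j ∈ T, v j *
      ((ε η : ℂ) * (b j η : ℂ) * (I η : G → ℂ) x)) fun η hη => by
        rw [hval _ (hmem.1 hη), Finset.mul_sum]
        exact Finset.sum_congr rfl fun j _ => by ring,
      Finset.sum_comm]
    exact Finset.sum_eq_zero fun j hj => by rw [← Finset.mul_sum, hright _ (hT j hj).1 x hx, mul_zero]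
  have hεint : ∀ η, IsIntegral ℤ ((ε η : ℤ) : ℂ) := fun η => isIntegral_algebraMap
  intro x y
  by_cases hx : IsPRegular 2 x <;> by_cases hy : IsPRegular 2 y
  · refine ⟨?_, ?_, Or.inl (iff_of_true hx hy)⟩
    · have key : ∀ g : G, ∑ χ ∈ s.image I, (∑ η ∈ s.filter (fun η => I η = χ),
          (ε η : ℂ) * (η : H → ℂ) y) * (χ : G → ℂ) g = signedBijectionKernel B' I ε g y := fun g => by
        rw [hμ, ← Finset.sum_fiberwise_of_maps_to (t := s.image I) (g := I)
          fun η hη => Finset.mem_image_of_mem I hη]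
        refine Finset.sum_congr rfl fun χ _ => ?_
        rw [Finset.sum_mul]
        exact Finset.sum_congr rfl fun η hη => by rw [(Finset.mem_filter.1 hη).2]; ring
      rw [← key]
      refine div_centralizer_local hM _ _ (fun χ _ => IsIntegral.sum _ fun η _ =>
        (hεint η).mul
          (IsCharacter.isIntegral (irr_isCharacter η) y)) (fun g hg => ?_) hx
      rw [key]
      exact hsr g y hg hy
    · have key : ∀ g : H, ∑ η ∈ s, ((ε η : ℂ) * (I η : G → ℂ) x) * (η : H → ℂ) g =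
          signedBijectionKernel B' I ε x g := fun g => (hμ x g).symm
      rw [← key]
      refine div_centralizer_local hM _ _ (fun η _ => (hεint η).mul
        (IsCharacter.isIntegral (irr_isCharacter (I η)) x)) (fun g hg => ?_) hy
      rw [key]
      exact hrs x g hx hg
  · rw [hrs x y hx hy, zero_div, zero_div]
    exact ⟨memLocalRing_intCast (M := M) 0 |> fun h => by simpa using h,
      memLocalRing_intCast (M := M) 0 |> fun h => by simpa using h, Or.inr rfl⟩
  · rw [hsr x y hx hy, zero_div, zero_div]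
    exact ⟨memLocalRing_intCast (M := M) 0 |> fun h => by simpa using h,
      memLocalRing_intCast (M := M) 0 |> fun h => by simpa using h, Or.inr rfl⟩
  · obtain ⟨ι, T, a, w, hval, hT⟩ := hB x hx
    obtain ⟨κ, U, b, v, hval', hU⟩ := hB' y hy
    have hk : ∀ i ∈ T, ∀ j ∈ U, ∃ k : ℤ, ∑ η ∈ s, ε η * a i (I η) * b j η = 4 * k := fun i hi j hj =>
      hpair _ _ (hT i hi).1 (hU j hj).1
    choose k hk using hk
    have hexp : signedBijectionKernel B' I ε x y =
        ∑ i ∈ T.attach, ∑ j ∈ U.attach, (k i.1 i.2 j.1 j.2 : ℂ) * (4 * w i.1 * v j.1) := by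
      have h1 : signedBijectionKernel B' I ε x y =
          ∑ i ∈ T, ∑ j ∈ U, ((∑ η ∈ s, ε η * a i (I η) * b j η : ℤ) : ℂ) * (w i * v j) := by
        rw [hμ]
        simp only [Int.cast_sum, Int.cast_mul, Finset.sum_mul]
        rw [Finset.sum_congr rfl fun η hη => by
          rw [hval _ (hI.mapsTo (hmem.1 hη)), hval' _ (hmem.1 hη), mul_assoc, Finset.sum_mul_sum, Finset.mul_sum],
          Finset.sum_comm]
        refine Finset.sum_congr rfl fun i _ => ?_
        rw [Finset.sum_comm (s := U)]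
        refine Finset.sum_congr rfl fun η _ => ?_
        rw [Finset.mul_sum]
        exact Finset.sum_congr rfl fun j _ => by ring
      rw [h1, ← Finset.sum_attach T]
      refine Finset.sum_congr rfl fun i _ => ?_
      rw [← Finset.sum_attach U]
      refine Finset.sum_congr rfl fun j _ => ?_
      rw [hk i.1 i.2 j.1 j.2]
      push_cast
      ring
    refine ⟨?_, ?_, Or.inl (iff_of_false hx hy)⟩
    · rw [hexp]
      simp only [Finset.sum_div]
      refine memLocalRing_sum _ fun i _ => memLocalRing_sum _ fun j _ => ?_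
      rw [show (k i.1 i.2 j.1 j.2 : ℂ) * (4 * w i.1 * v j.1) /
          (Nat.card (Subgroup.centralizer ({x} : Set G)) : ℂ) =
        (k i.1 i.2 j.1 j.2 : ℂ) * v j.1 *
          (4 * w i.1 / (Nat.card (Subgroup.centralizer ({x} : Set G)) : ℂ)) by ring]
      exact memLocalRing_mul (memLocalRing_mul (memLocalRing_intCast _) (hU j.1 j.2).2.1)
        (hT i.1 i.2).2.2
    · rw [hexp]
      simp only [Finset.sum_div]
      refine memLocalRing_sum _ fun i _ => memLocalRing_sum _ fun j _ => ?_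
      rw [show (k i.1 i.2 j.1 j.2 : ℂ) * (4 * w i.1 * v j.1) /
          (Nat.card (Subgroup.centralizer ({y} : Set H)) : ℂ) =
        (k i.1 i.2 j.1 j.2 : ℂ) * w i.1 *
          (4 * v j.1 / (Nat.card (Subgroup.centralizer ({y} : Set H)) : ℂ)) by ring]
      exact memLocalRing_mul (memLocalRing_mul (memLocalRing_intCast _) (hT i.1 i.2).2.1)
        (hU j.1 j.2).2.2

/-- Two blocks with Klein four defect groups and the same rank are perfectly isometric. -/
theorem exists_isometry (hM : IsPModular 2 M) {P : Subgroup G}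
    {c : Set (IrrCharacter (Subgroup.centralizer (P : Set G)))}
    (hmax : IsMaximalBrauerPair 2 M B P c) (hV : IsKleinFour P) {P' : Subgroup H}
    {c' : Set (IrrCharacter (Subgroup.centralizer (P' : Set H)))}
    (hmax' : IsMaximalBrauerPair 2 M B' P' c') (hV' : IsKleinFour P')
    (hl : blockRank 2 B' = blockRank 2 B) :
    ∃ (I : IrrCharacter H → IrrCharacter G) (ε : IrrCharacter H → ℤ),
      IsPerfectIsometry 2 M B' B I ε := by
  classical
  obtain ⟨he, h4, hlB⟩ := klein_main hM hmax hV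
  obtain ⟨-, h4', -⟩ := klein_main hM hmax' hV'
  obtain ⟨σ⟩ : Nonempty (B' ≃ B) := Finite.card_eq.1 (h4'.trans h4.symm)
  let I : IrrCharacter H → IrrCharacter G := fun η =>
    if h : η ∈ B' then (σ ⟨η, h⟩ : IrrCharacter G) else trivIrr G
  have hIval : ∀ η (h : η ∈ B'), I η = (σ ⟨η, h⟩ : IrrCharacter G) := fun η h => dif_pos h
  have hI : Set.BijOn I B' B := by
    refine ⟨fun η h => by rw [hIval η h]; exact (σ ⟨η, h⟩).2, fun η h η' h' heq => ?_, fun χ hχ => ?_⟩
    · rw [hIval η h, hIval η' h'] at heq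
      exact congrArg Subtype.val (σ.injective (Subtype.ext heq))
    · exact ⟨σ.symm ⟨χ, hχ⟩, (σ.symm ⟨χ, hχ⟩).2, by rw [hIval _ (σ.symm ⟨χ, hχ⟩).2]; simp⟩
  set s := (Set.toFinite B').toFinset with hs
  have hmem : ∀ {η}, η ∈ s ↔ η ∈ B' := (Set.toFinite B').mem_toFinset
  have hcard : s.card = 4 := by rw [← h4', Nat.card_coe_set_eq, Set.ncard_eq_toFinset_card B']
  have hsumI : ∀ {R : Type} [inst : AddCommMonoid R] (f : IrrCharacter G → R),
      ∑ η ∈ s, f (I η) = ∑ᶠ χ ∈ B, f χ := by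
    intro R _ f
    rw [finsum_mem_eq_finite_toFinset_sum _ (Set.toFinite B)]
    refine Finset.sum_bij (fun η _ => I η) (fun η hη => (Set.toFinite B).mem_toFinset.2
      (hI.mapsTo (hmem.1 hη))) (fun η hη η' hη' h => hI.injOn (hmem.1 hη) (hmem.1 hη') h)
      (fun χ hχ => ?_) (fun η _ => rfl)
    obtain ⟨η, hη, rfl⟩ := hI.surjOn ((Set.toFinite B).mem_toFinset.1 hχ)
    exact ⟨η, hmem.2 hη, rfl⟩
  rcases he with he | he
  · -- rank one
    rw [he] at hlB
    obtain ⟨hc, hbal⟩ := rank_one_vectors hM hmax hV h4 hlB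
    obtain ⟨hc', hbal'⟩ := rank_one_vectors hM hmax' hV' h4' (hl.trans hlB)
    obtain ⟨χ₀, hχ₀⟩ := IsPBlock.nonempty hmax.1.2.1
    obtain ⟨η₀, hη₀⟩ := IsPBlock.nonempty hmax'.1.2.1
    refine ⟨I, fun _ => 1, isPerfectIsometry_of_vectors hM (fun x hx => singular_expansion hM hmax hV hx)
      (fun x hx => singular_expansion hM hmax' hV' hx) I _ hI (fun _ _ => Or.inl rfl)
      (fun a b ha hb => ?_) (fun a ha y hy => ?_) (fun b hb x hx => ?_)⟩
    · rw [finsum_mem_eq_finite_toFinset_sum _ (Set.toFinite B'), ← hs]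
      simp only [one_mul]
      refine four_dvd_sum_mul s hcard _ _ (fun η hη => ha.1 _ (hI.mapsTo (hmem.1 hη)))
        (fun η hη => hb.1 _ (hmem.1 hη)) ?_ ?_
      · rw [hsumI a]; exact hbal a ha
      · have h := hbal' b hb
        rwa [finsum_mem_eq_finite_toFinset_sum _ (Set.toFinite B'), ← hs] at h
    · rw [finsum_mem_eq_finite_toFinset_sum _ (Set.toFinite B'), ← hs,
        Finset.sum_congr rfl (g := fun η => (a (I η) : ℂ) * (η₀ : H → ℂ) y) fun η hη => by
          rw [hc' η (hmem.1 hη) η₀ hη₀ y hy, Int.cast_one, one_mul],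
        ← Finset.sum_mul, ← Int.cast_sum, hsumI a, hbal a ha, Int.cast_zero, zero_mul]
    · have h := hbal' b hb
      rw [finsum_mem_eq_finite_toFinset_sum _ (Set.toFinite B'), ← hs] at h
      rw [finsum_mem_eq_finite_toFinset_sum _ (Set.toFinite B'), ← hs,
        Finset.sum_congr rfl (g := fun η => (b η : ℂ) * (χ₀ : G → ℂ) x) fun η hη => by
          rw [hc _ (hI.mapsTo (hmem.1 hη)) χ₀ hχ₀ x hx, Int.cast_one, one_mul],
        ← Finset.sum_mul, ← Int.cast_sum, h, Int.cast_zero, zero_mul]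
  · -- rank three
    rw [he] at hlB
    obtain ⟨a₀, ha₀⟩ := exists_signVec hM hmax hV
    obtain ⟨b₀, hb₀⟩ := exists_signVec hM hmax' hV'
    refine ⟨I, fun η => a₀ (I η) * b₀ η, isPerfectIsometry_of_vectors hM
      (fun x hx => singular_expansion hM hmax hV hx)
      (fun x hx => singular_expansion hM hmax' hV' hx) I _ hI (fun η hη => ?_)
      (fun a b ha hb => ?_) (fun a ha y hy => ?_) (fun b hb x hx => ?_)⟩
    · exact sq_eq_one_iff.1 (by rw [mul_pow, ha₀.1 _ (hI.mapsTo hη), hb₀.1 _ hη, one_mul])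
    · obtain ⟨t, ht⟩ := rank_three_vectors hM h4 hlB ha ha₀
      obtain ⟨t', ht'⟩ := rank_three_vectors hM h4' (hl.trans hlB) hb hb₀
      rw [finsum_mem_eq_finite_toFinset_sum _ (Set.toFinite B'), ← hs,
        Finset.sum_congr rfl (g := fun _ => t * t') fun η hη => by
          rw [ht _ (hI.mapsTo (hmem.1 hη)), ht' _ (hmem.1 hη)]
          linear_combination (t * t' * b₀ η ^ 2) * ha₀.1 _ (hI.mapsTo (hmem.1 hη)) +
            (t * t') * hb₀.1 _ (hmem.1 hη), Finset.sum_const, hcard]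
      exact ⟨t * t', by simp⟩
    · obtain ⟨t, ht⟩ := rank_three_vectors hM h4 hlB ha ha₀
      have h := hb₀.2 y hy
      rw [finsum_mem_eq_finite_toFinset_sum _ (Set.toFinite B'), ← hs] at h ⊢
      rw [Finset.sum_congr rfl (g := fun η => (t : ℂ) * ((b₀ η : ℂ) * (η : H → ℂ) y)) fun η hη => by
          rw [ht _ (hI.mapsTo (hmem.1 hη))]
          have hsq : ((a₀ (I η) : ℂ)) ^ 2 = 1 := by exact_mod_cast ha₀.1 _ (hI.mapsTo (hmem.1 hη))
          push_cast
          linear_combination ((t : ℂ) * (b₀ η : ℂ) * (η : H → ℂ) y) * hsq,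
        ← Finset.mul_sum, h, mul_zero]
    · obtain ⟨t', ht'⟩ := rank_three_vectors hM h4' (hl.trans hlB) hb hb₀
      have h := ha₀.2 x hx
      rw [← hsumI (fun χ => (a₀ χ : ℂ) * (χ : G → ℂ) x)] at h
      rw [finsum_mem_eq_finite_toFinset_sum _ (Set.toFinite B'), ← hs,
        Finset.sum_congr rfl (g := fun η => (t' : ℂ) * ((a₀ (I η) : ℂ) * (I η : G → ℂ) x)) fun η hη => by
          rw [ht' _ (hmem.1 hη)]
          have hsq : ((b₀ η : ℂ)) ^ 2 = 1 := by exact_mod_cast hb₀.1 _ (hmem.1 hη)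
          push_cast
          linear_combination ((t' : ℂ) * (a₀ (I η) : ℂ) * (I η : G → ℂ) x) * hsq,
        ← Finset.mul_sum, h, mul_zero]

end Cfsg.Agent.Lib.KleinIsometry
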